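import Mathlib

/-!
Jouanolou's trick for a quasi-affine scheme.
-/

set_option autoImplicit false
set_option backward.isDefEq.respectTransparency false
set_option linter.style.haveILetI false
universe u
open CategoryTheory CategoryTheory.Limits AlgebraicGeometry Opposite

noncomputable section

namespace Groth.Agent.Jouanolou

/-- The data of the affine scheme of partitions of unity `∑ aᵢ fᵢ = 1`, with one free parameter. -/
theorem exists_torsor (X : Scheme.{u}) [X.IsQuasiAffine] :
    ∃ (m : ℕ) (f : Fin m → Γ(X, ⊤)) (T : Scheme.{u}) (_ : IsAffine T) (p : T ⟶ X)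
      (a : Fin m → Γ(T, ⊤)) (t : Γ(T, ⊤)), (∑ i, p.appTop (f i) * a i = 1) ∧
      (∀ (Y : Scheme.{u}) [IsAffine Y] (h : Y ⟶ X), ∃ v : Fin m → Γ(Y, ⊤), ∑ i, h.appTop (f i) * v i = 1) ∧
      (∀ (Y : Scheme.{u}) (h : Y ⟶ X) (v : Fin m → Γ(Y, ⊤)) (w : Γ(Y, ⊤)),
        ∑ i, h.appTop (f i) * v i = 1 →
        ∃! s : Y ⟶ T, s ≫ p = h ∧ (∀ i, s.appTop (a i) = v i) ∧ s.appTop t = w) := by
  classical
  let R : CommRingCat.{u} := Γ(X, ⊤)
  let ι : X ⟶ Spec R := X.toSpecΓ
  haveI : IsOpenImmersion ι := inferInstanceAs (IsOpenImmersion X.toSpecΓ)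
  have hc : IsCompact (Set.range ι : Set (Spec R)) := isCompact_range ι.continuous
  have ho : IsOpen (Set.range ι : Set (Spec R)) := ι.isOpenEmbedding.isOpen_range
  obtain ⟨s, hs⟩ : ∃ s : Finset R, Set.range ι = ⋃ r ∈ s, (PrimeSpectrum.basicOpen r : Set (PrimeSpectrum R)) := by
    obtain ⟨t, ht, e⟩ := (PrimeSpectrum.isBasis_basic_opens (R := R)).isCompact_open_iff_eq_finite_iUnion
      _ (fun r => PrimeSpectrum.isCompact_basicOpen r) (Set.range ι) |>.1 ⟨hc, ho⟩
    exact ⟨ht.toFinset, by simp [e]⟩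
  let f : Fin s.card → R := fun i => (s.equivFin.symm i : R)
  have hcov : ∀ x : Spec R, x ∈ Set.range ι ↔ ∃ i, f i ∉ x.asIdeal := by
    intro x
    rw [hs]
    simp only [Set.mem_iUnion, exists_prop]
    constructor
    · rintro ⟨r, hr, hx⟩
      refine ⟨s.equivFin ⟨r, hr⟩, ?_⟩
      simp only [f, Equiv.symm_apply_apply]
      exact (PrimeSpectrum.mem_basicOpen _ _).1 hx
    · rintro ⟨i, hi⟩
      exact ⟨_, (s.equivFin.symm i).2, hi⟩
  let J : Ideal (MvPolynomial (Fin s.card ⊕ Unit) R) :=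
    Ideal.span {(∑ i, MvPolynomial.C (f i) * MvPolynomial.X (Sum.inl i)) - 1}
  let A : CommRingCat.{u} := CommRingCat.of (MvPolynomial (Fin s.card ⊕ Unit) R ⧸ J)
  let φ : R ⟶ A := CommRingCat.ofHom ((Ideal.Quotient.mk J).comp MvPolynomial.C)
  have hrel : ∑ i, φ (f i) * Ideal.Quotient.mk J (MvPolynomial.X (Sum.inl i)) = 1 := by
    have h0 : Ideal.Quotient.mk J ((∑ i, MvPolynomial.C (f i) * MvPolynomial.X (Sum.inl i)) - 1) = 0 :=
      Ideal.Quotient.eq_zero_iff_mem.2 (Ideal.subset_span rfl)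
    rw [map_sub, sub_eq_zero, map_sum, map_one] at h0
    simpa [φ] using h0
  have hrange : Set.range (Spec.map φ) ⊆ Set.range ι := by
    rintro _ ⟨y, rfl⟩
    rw [hcov]
    by_contra hne
    push_neg at hne
    apply y.isPrime.ne_top
    rw [Ideal.eq_top_iff_one, ← hrel]
    exact Ideal.sum_mem _ fun i _ => Ideal.mul_mem_right _ _ (hne i)
  let p : Spec A ⟶ X := IsOpenImmersion.lift ι (Spec.map φ) hrange
  have hp : p ≫ ι = Spec.map φ := IsOpenImmersion.lift_fac _ _ _
  have hpapp : ∀ r : R, p.appTop r = (Scheme.ΓSpecIso A).inv (φ r) := by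
    intro r
    have h1 := congrArg Scheme.Hom.appTop hp
    rw [Scheme.Hom.comp_appTop, show ι.appTop = (Scheme.ΓSpecIso R).hom from Scheme.toSpecΓ_appTop X] at h1
    have h2 := congrArg (fun k => (Scheme.ΓSpecIso R).inv ≫ k) h1
    simp only [Iso.inv_hom_id_assoc] at h2
    rw [← Scheme.ΓSpecIso_inv_naturality] at h2
    exact congrArg (fun k => k r) h2
  refine ⟨s.card, f, Spec A, inferInstance, p,
    fun i => (Scheme.ΓSpecIso A).inv (Ideal.Quotient.mk J (MvPolynomial.X (Sum.inl i))),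
    (Scheme.ΓSpecIso A).inv (Ideal.Quotient.mk J (MvPolynomial.X (Sum.inr ()))), ?_, ?_, ?_⟩
  · simp only [hpapp, ← map_mul, ← map_sum, hrel, map_one]
  · intro Y _ h
    have htop : Ideal.span (Set.range fun i => h.appTop (f i)) = ⊤ := by
      by_contra hne
      obtain ⟨m, hm, hle⟩ := Ideal.exists_le_maximal _ hne
      haveI := hm.isPrime
      let y : Y := Y.isoSpec.inv ⟨m, hm.isPrime⟩
      obtain ⟨i, hi⟩ := (hcov (ι (h y))).1 ⟨h y, rfl⟩
      have e : ι (h y) = Spec.map h.appTop ⟨m, hm.isPrime⟩ := by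
        have := Scheme.toSpecΓ_naturality h
        have hy : Y.toSpecΓ y = ⟨m, hm.isPrime⟩ := by
          change (Y.isoSpec.inv ≫ Y.isoSpec.hom) _ = _
          rw [Iso.inv_hom_id]; rfl
        rw [← hy]
        exact congrArg (fun k => k y) this
      rw [e] at hi
      exact hi (hle (Ideal.subset_span ⟨i, rfl⟩))
    obtain ⟨v, hv⟩ := (Ideal.mem_span_range_iff_exists_fun).1 (htop.symm ▸ Submodule.mem_top : (1 : Γ(Y, ⊤)) ∈ _)
    exact ⟨v, by simpa only [mul_comm] using hv⟩
  · intro Y h v w hvw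
    let ev : MvPolynomial (Fin s.card ⊕ Unit) R →+* Γ(Y, ⊤) :=
      MvPolynomial.eval₂Hom h.appTop.hom (Sum.elim v fun _ => w)
    have hev : ∀ x ∈ J, ev x = 0 := by
      intro x hx
      refine (Ideal.span_le.2 ?_ hx : x ∈ RingHom.ker ev)
      rintro _ rfl
      simp only [SetLike.mem_coe, RingHom.mem_ker, ev, map_sub, map_sum, map_mul, map_one,
        MvPolynomial.eval₂Hom_C, MvPolynomial.eval₂Hom_X', Sum.elim_inl, sub_eq_zero]
      exact hvw
    let ψ : A ⟶ Γ(Y, ⊤) := CommRingCat.ofHom (Ideal.Quotient.lift J ev hev)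
    let σ : Y ⟶ Spec A := Y.toSpecΓ ≫ Spec.map ψ
    have hσ : ∀ x, σ.appTop ((Scheme.ΓSpecIso A).inv x) = ψ x := by
      intro x
      have : (Scheme.ΓSpecIso A).inv ≫ σ.appTop = ψ := by
        simp only [σ, Scheme.Hom.comp_appTop, Scheme.toSpecΓ_appTop]
        rw [← Category.assoc, ← Scheme.ΓSpecIso_inv_naturality, Category.assoc, Iso.inv_hom_id, Category.comp_id]
      exact congrArg (fun k => k x) this
    refine ⟨σ, ⟨?_, fun i => ?_, ?_⟩, ?_⟩
    · rw [← cancel_mono ι, Category.assoc, hp]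
      have hc : φ ≫ ψ = h.appTop := by
        refine CommRingCat.hom_ext (RingHom.ext fun r => ?_)
        change ev (MvPolynomial.C r) = _
        exact MvPolynomial.eval₂Hom_C ..
      simp only [σ, Category.assoc, ← Spec.map_comp, hc]
      exact (Scheme.toSpecΓ_naturality h).symm
    · rw [hσ]
      change ev (MvPolynomial.X (Sum.inl i)) = _
      exact MvPolynomial.eval₂Hom_X' ..
    · rw [hσ]
      change ev (MvPolynomial.X (Sum.inr ())) = _
      exact MvPolynomial.eval₂Hom_X' ..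
    · rintro τ ⟨hτ, hτa, hτt⟩
      apply ext_of_isAffine
      rw [← cancel_epi (Scheme.ΓSpecIso A).inv]
      have key : (((Scheme.ΓSpecIso A).inv ≫ τ.appTop).hom.comp (Ideal.Quotient.mk J)) = ev := by
        refine MvPolynomial.ringHom_ext (fun r => ?_) (fun i => ?_)
        · change τ.appTop ((Scheme.ΓSpecIso A).inv (φ r)) = _
          rw [← hpapp, show τ.appTop (p.appTop r) = (τ ≫ p).appTop r from rfl, hτ]
          simp only [ev, MvPolynomial.eval₂Hom_C]
          rfl
        · rcases i with i | i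
          · refine (hτa i).trans ?_
            simp only [ev, MvPolynomial.eval₂Hom_X', Sum.elim_inl]
          · refine Eq.trans ?_ (hτt.trans (MvPolynomial.eval₂Hom_X' (CommRingCat.Hom.hom h.appTop) (Sum.elim v fun _ => w) (Sum.inr i)).symm)
            rfl
      refine CommRingCat.hom_ext (Ideal.Quotient.ringHom_ext (key.trans ?_))
      refine RingHom.ext fun x => ?_
      change _ = σ.appTop ((Scheme.ΓSpecIso A).inv (Ideal.Quotient.mk J x))
      rw [hσ]
      rfl

theorem sum_mul_shift {A : Type*} [CommRing A] {ι : Type*} [Fintype ι] (F c a0 : ι → A)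
    (h : ∑ i, F i * a0 i = 1) :
    ∑ i, F i * (c i - (∑ j, F j * c j) * a0 i + a0 i) = 1 := by
  simp only [mul_add, mul_sub, Finset.sum_add_distrib, Finset.sum_sub_distrib, mul_left_comm (F _),
    ← Finset.mul_sum, h]
  ring

theorem sum_mul_coord {A : Type*} [CommRing A] {ι : Type*} [Fintype ι] (F a a0 : ι → A) (t : A)
    (h1 : ∑ i, F i * a i = 1) (h2 : ∑ i, F i * a0 i = 1) :
    ∑ i, F i * (a i - a0 i + t * a0 i) = t := by
  simp only [mul_add, mul_sub, Finset.sum_add_distrib, Finset.sum_sub_distrib, mul_left_comm (F _) t,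
    ← Finset.mul_sum, h1, h2]
  ring

/-- Maps into affine space over an affine-bundle torsor. -/
theorem exists_affineSpace_torsor (X : Scheme.{u}) [X.IsQuasiAffine] :
    ∃ (n : ℕ) (T : Scheme.{u}) (_ : IsAffine T) (p : T ⟶ X),
      ∀ (X' : Scheme.{u}) [IsAffine X'] (g : X' ⟶ X),
        ∃ e : Limits.pullback g p ≅ 𝔸(ULift.{u} (Fin n); X'),
          e.hom ≫ (𝔸(ULift.{u} (Fin n); X') ↘ X') = Limits.pullback.fst g p := by
  obtain ⟨m, f, T, hT, p, a, t, hrel, hex, huniv⟩ := exists_torsor X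
  refine ⟨m, T, hT, p, fun X' _ g => ?_⟩
  obtain ⟨a0, ha0⟩ := hex X' g
  let P := pullback g p
  let q := pullback.fst g p
  let q2 := pullback.snd g p
  let E := 𝔸(ULift.{u} (Fin m); X')
  let π : E ⟶ X' := E ↘ X'
  -- forward coordinates
  let bv : ULift.{u} (Fin m) → Γ(P, ⊤) := fun i =>
    q2.appTop (a i.down) - q.appTop (a0 i.down) + q2.appTop t * q.appTop (a0 i.down)
  let F : P ⟶ E := AffineSpace.homOfVector q bv
  -- backward coordinates
  let c : Fin m → Γ(E, ⊤) := fun i => AffineSpace.coord X' ⟨i⟩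
  let fE : Fin m → Γ(E, ⊤) := fun i => (π ≫ g).appTop (f i)
  let w : Γ(E, ⊤) := ∑ i, fE i * c i
  let v : Fin m → Γ(E, ⊤) := fun i => c i - w * π.appTop (a0 i) + π.appTop (a0 i)
  have h0 : ∑ i, fE i * π.appTop (a0 i) = 1 := by
    have := congrArg π.appTop ha0
    simp only [map_sum, map_mul, map_one] at this
    exact this
  have hv : ∑ i, (π ≫ g).appTop (f i) * v i = 1 := by
    exact sum_mul_shift fE c (fun i => π.appTop (a0 i)) h0
  obtain ⟨s, ⟨hs1, hs2, hs3⟩, -⟩ := huniv E (π ≫ g) v w hv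
  let G : E ⟶ P := pullback.lift π s hs1.symm
  have hFπ : F ≫ π = q := AffineSpace.homOfVector_over ..
  have hGq : G ≫ q = π := pullback.lift_fst ..
  have hGq2 : G ≫ q2 = s := pullback.lift_snd ..
  have happ : ∀ {Y Z W : Scheme.{u}} (α : Y ⟶ Z) (β : Z ⟶ W) (x : Γ(W, ⊤)), α.appTop (β.appTop x) = (α ≫ β).appTop x :=
    fun _ _ _ => rfl
  have hFc : ∀ i, F.appTop (c i) = bv ⟨i⟩ := fun i => AffineSpace.homOfVector_appTop_coord ..
  have hPf : ∀ i, F.appTop (fE i) = q2.appTop (p.appTop (f i)) := fun i => by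
    simp only [fE]
    rw [happ, happ, ← Category.assoc, hFπ]
    exact congrArg (fun k : P ⟶ X => k.appTop (f i)) pullback.condition
  have hFw : F.appTop w = q2.appTop t := by
    have h1 : ∑ i, q2.appTop (p.appTop (f i)) * q2.appTop (a i) = 1 := by
      simpa only [map_sum, map_mul, map_one] using congrArg q2.appTop hrel
    have h2 : ∑ i, q2.appTop (p.appTop (f i)) * q.appTop (a0 i) = 1 := by
      have := congrArg q.appTop ha0
      simp only [map_sum, map_mul, map_one] at this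
      refine (Finset.sum_congr rfl fun i _ => ?_).trans this
      rw [happ, happ]
      exact congrArg (fun k : P ⟶ X => k.appTop (f i) * _) pullback.condition.symm
    calc F.appTop w = ∑ i, F.appTop (fE i) * F.appTop (c i) := by simp only [w, map_sum, map_mul]
      _ = ∑ i, q2.appTop (p.appTop (f i)) * bv ⟨i⟩ :=
          Finset.sum_congr rfl fun i _ => by rw [hPf, hFc]
      _ = q2.appTop t := sum_mul_coord _ (fun i => q2.appTop (a i)) (fun i => q.appTop (a0 i)) _ h1 h2
  refine ⟨⟨F, G, ?_, ?_⟩, hFπ⟩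
  · apply pullback.hom_ext
    · rw [Category.assoc, hGq, hFπ, Category.id_comp]
    · rw [Category.assoc, hGq2, Category.id_comp]
      obtain ⟨r, -, hr⟩ := huniv P (q2 ≫ p) (fun i => q2.appTop (a i)) (q2.appTop t)
        (by simpa only [map_sum, map_mul, map_one, happ] using congrArg q2.appTop hrel)
      refine (hr (F ≫ s) ⟨?_, fun i => ?_, ?_⟩).trans (hr q2 ⟨rfl, fun _ => rfl, rfl⟩).symm
      · rw [Category.assoc, hs1, ← Category.assoc, hFπ]; exact pullback.condition
      · rw [← happ, hs2]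
        simp only [v, map_add, map_sub, map_mul, hFc, hFw, bv, happ, hFπ]
        ring
      · rw [← happ, hs3, hFw]
  · refine AffineSpace.hom_ext ?_ fun i => ?_
    · rw [Category.assoc, hFπ, hGq, Category.id_comp]
    · rw [← happ, AffineSpace.homOfVector_appTop_coord, Scheme.Hom.id_appTop]
      simp only [bv, map_add, map_sub, map_mul]
      simp only [happ, hGq, hGq2]
      rw [hs2 i.down, hs3]
      change c i.down - w * _ + _ - _ + w * _ = c i.down
      ring

end Groth.Agent.Jouanolou
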